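import Groth.Agent.Lib.CohFound.ProperFinite
import Groth.Agent.Lib.CohFound.HHBridge
import Groth.Agent.Lib.Ample18.Ample
import Groth.Agent.Lib.TensorMod.InvCrit
import Groth.Agent.Lib.CohFound.ProjQuot
import Groth.Agent.Lib.VarDim.Scheme
import Mathlib.AlgebraicGeometry.Morphisms.Finite
import Mathlib.RingTheory.Filtration
import Mathlib.RingTheory.Ideal.AssociatedPrime.Basic

/-!
# Negative twists of a coherent module without closed associated points have no sections
-/

set_option autoImplicit false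
set_option linter.style.haveILetI false
set_option backward.isDefEq.respectTransparency false

universe u

open CategoryTheory AlgebraicGeometry TopologicalSpace Opposite
open scoped TensorProduct

namespace Groth.Agent.NegTwist18

open Groth.Agent.M2 (tsec res stalkEquiv)
open Groth.Agent.Amp (gm Gen)

variable {X : Scheme.{u}} {k : Type u} [Field k]

/-- The base field acting on global sections. -/
noncomputable abbrev base (q : X ⟶ Spec (CommRingCat.of k)) : k →+* Γ(X, ⊤) := Coh.toGlobal q

/-- A closed irreducible subset of a proper scheme contained in an affine open is a point. -/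
theorem isClosed_of_closure_subset_affine (q : X ⟶ Spec (CommRingCat.of k)) [IsProper q] {y : X}
    {G : X.Opens} (hG : IsAffineOpen G) (h : closure ({y} : Set X) ⊆ G) : IsClosed ({y} : Set X) := by
  let I : X.IdealSheafData :=
    Scheme.IdealSheafData.vanishingIdeal ⟨closure {y}, isClosed_closure⟩
  have hrange : Set.range I.subschemeι = closure ({y} : Set X) := by
    rw [Scheme.IdealSheafData.range_subschemeι, Scheme.IdealSheafData.coe_support_vanishingIdeal]
    rfl
  haveI : IsAffine (G : Scheme.{u}) := hG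
  let l : I.subscheme ⟶ (G : Scheme.{u}) :=
    IsOpenImmersion.lift G.ι I.subschemeι (by rw [hrange, Scheme.Opens.range_ι]; exact h)
  haveI : IsClosedImmersion (l ≫ G.ι) := by rw [IsOpenImmersion.lift_fac]; infer_instance
  haveI : IsClosedImmersion l := IsClosedImmersion.of_comp l G.ι
  haveI : IsAffine I.subscheme := isAffine_of_isAffineHom l
  haveI : IsAffineHom (I.subschemeι ≫ q) := isAffineHom_of_isAffine _
  haveI : IsFinite (I.subschemeι ≫ q) := IsFinite.iff_isProper_and_isAffineHom.2 ⟨inferInstance, inferInstance⟩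
  obtain ⟨y', hy'⟩ : y ∈ Set.range I.subschemeι := hrange.ge (subset_closure rfl)
  have hd : _root_.IsDiscrete (Set.univ : Set I.subscheme) := by
    obtain ⟨pt⟩ : Nonempty (Spec (CommRingCat.of k)) := ⟨(I.subschemeι ≫ q) y'⟩
    have h0 := (I.subschemeι ≫ q).isDiscrete_preimage_singleton pt
    rwa [show (I.subschemeι ≫ q) ⁻¹' {pt} = Set.univ from Set.eq_univ_of_forall fun z =>
      Subsingleton.elim (α := Spec (CommRingCat.of k)) _ _] at h0
  haveI : DiscreteTopology I.subscheme := by
    rw [← (Homeomorph.Set.univ I.subscheme).discreteTopology_iff]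
    exact hd.to_subtype
  rw [← hy', ← Set.image_singleton]
  exact I.subschemeι.isClosedEmbedding.isClosedMap _ (isClosed_discrete _)

/-- A section of a coherent module with no closed associated point that vanishes at every point outside an
affine open of a proper scheme is zero. -/
theorem eq_zero_of_forall_gm_eq_zero (q : X ⟶ Spec (CommRingCat.of k)) [IsProper q] {N : X.Modules}
    (hN : Coh.IsQCoh N)
    (hass : ∀ x : X, IsClosed ({x} : Set X) → ¬ Curv2.IsAssPoint N x) {G : X.Opens} (hG : IsAffineOpen G)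
    (v : Γ(N, ⊤)) (hv : ∀ x ∉ G, gm N x (U := ⊤) trivial v = 0) : v = 0 := by
  haveI := hN
  haveI := CohFound.isNoetherian_of_isProper q
  by_contra hne
  let σ : Set X := {x | gm N x (U := ⊤) trivial v ≠ 0}
  have hσc : IsClosed σ := by
    rw [← isOpen_compl_iff, isOpen_iff_forall_mem_open]
    intro x hx
    have hx' : gm N x (U := ⊤) trivial v = gm N x (U := ⊤) trivial 0 := by
      simp only [σ, Set.mem_compl_iff, Set.mem_setOf_eq, not_not] at hx
      rw [hx]; exact (map_zero _).symm
    obtain ⟨W, hxW, i, i', he⟩ := N.presheaf.germ_eq x (U := ⊤) (V := ⊤) trivial trivial _ _ hx'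
    refine ⟨(W : Set X), fun z hz => ?_, W.2, hxW⟩
    simp only [σ, Set.mem_compl_iff, Set.mem_setOf_eq, not_not]
    have h1 := congrArg (N.presheaf.germ W z hz) he
    rw [TopCat.Presheaf.germ_res_apply, TopCat.Presheaf.germ_res_apply, map_zero] at h1
    exact h1
  obtain ⟨y, hyσ, hymax⟩ : ∃ y ∈ σ, ∀ z ∈ σ, z ⤳ y → z = y := by
    obtain ⟨x, hx⟩ : ∃ x, x ∈ σ := by
      by_contra hcon
      push Not at hcon
      refine hne (Amp.eq_of_gm fun x hx => ?_)
      simp only [σ, Set.mem_setOf_eq, not_not] at hcon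
      rw [hcon x]; exact (map_zero _).symm
    haveI : QuasiSober σ := hσc.isClosedEmbedding_subtypeVal.quasiSober
    obtain ⟨g, hg⟩ := QuasiSober.sober (isIrreducible_irreducibleComponent (x := (⟨x, hx⟩ : σ)))
      isClosed_irreducibleComponent
    refine ⟨g.1, g.2, fun z hz hzg => ?_⟩
    have hzg' : (⟨z, hz⟩ : σ) ⤳ g := (subtype_specializes_iff _ _).2 hzg
    have hle : irreducibleComponent (⟨x, hx⟩ : σ) ⊆ closure {(⟨z, hz⟩ : σ)} := by
      rw [← hg.def]
      exact closure_minimal (Set.singleton_subset_iff.2 hzg'.mem_closure) isClosed_closure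
    have h2 := (irreducibleComponent_mem_irreducibleComponents (⟨x, hx⟩ : σ)).2
      isIrreducible_singleton.closure hle
    have h3 : g ⤳ (⟨z, hz⟩ : σ) := hg.specializes (h2 (subset_closure rfl))
    exact congrArg Subtype.val (h3.antisymm hzg').eq.symm
  have hsub : closure ({y} : Set X) ⊆ G := fun x hx => by
    by_contra hxG
    have : x ∈ σ := closure_minimal (Set.singleton_subset_iff.2 hyσ) hσc hx
    exact this (hv x hxG)
  have hycl := isClosed_of_closure_subset_affine q hG hsub
  refine hass y hycl ?_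
  obtain ⟨U, hU, hyU, -⟩ := exists_isAffineOpen_mem_and_subset (U := (⊤ : X.Opens)) (x := y) trivial
  haveI : IsNoetherianRing (X.presheaf.stalk y) := inferInstance
  obtain ⟨p, hp, hann⟩ := exists_le_isAssociatedPrime_of_isNoetherianRing (X.presheaf.stalk y)
    (gm N y (U := ⊤) trivial v) hyσ
  suffices hpm : p = IsLocalRing.maximalIdeal (X.presheaf.stalk y) by
    rw [hpm] at hp
    exact hp
  letI := TopCat.Presheaf.algebra_section_stalk X.presheaf (⟨y, hyU⟩ : U)
  haveI := hU.isLocalization_stalk ⟨y, hyU⟩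
  haveI := hp.1
  let P : PrimeSpectrum Γ(X, U) := ⟨p.comap (X.presheaf.germ U y hyU).hom, inferInstance⟩
  let Q := hU.primeIdealOf ⟨y, hyU⟩
  have hPQ : P ≤ Q := by
    intro a ha
    by_contra haQ
    exact hp.1.ne_top (Ideal.eq_top_of_isUnit_mem _ ha ((M1.isUnit_germ_iff hU hyU a).2 haQ))
  have hz : hU.fromSpec P ⤳ y := by
    have h1 := ((PrimeSpectrum.le_iff_specializes _ _).1 hPQ).map hU.fromSpec.continuous
    rwa [show hU.fromSpec Q = y from hU.fromSpec_primeIdealOf ⟨y, hyU⟩] at h1
  have hzU : hU.fromSpec P ∈ U := hU.opensRange_fromSpec.le ⟨P, rfl⟩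
  by_cases hzy : hU.fromSpec P = y
  · have hPQ' : P = Q := hU.fromSpec.isOpenEmbedding.injective
      (hzy.trans (hU.fromSpec_primeIdealOf ⟨y, hyU⟩).symm)
    refine le_antisymm (IsLocalRing.le_maximalIdeal hp.1.ne_top) ?_
    rw [← IsLocalization.AtPrime.map_eq_maximalIdeal (Rₚ := X.presheaf.stalk y) Q.asIdeal, Ideal.map_le_iff_le_comap,
      ← hPQ']
    exact le_rfl
  · exfalso
    have hgz : gm N (hU.fromSpec P) (U := ⊤) trivial v = 0 := by
      by_contra h
      exact hzy (hymax _ h hz)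
    obtain ⟨r, hr, hr0⟩ := M1.exists_smul_eq_zero_of_germ_eq_zero N hU hzU (res N le_top v)
      (by rw [M1.germ_mres]; exact hgz)
    have h1 : X.presheaf.germ U y hyU r ∈ p := by
      refine hann ?_
      rw [Submodule.mem_colon_singleton, Submodule.mem_bot, ← Amp.gm_res (le_top : U ≤ ⊤) hyU, ← Amp.gm_smul, hr0]
      exact map_zero _
    have h2 : hU.primeIdealOf ⟨_, hzU⟩ = P := hU.fromSpec.isOpenEmbedding.injective (hU.fromSpec_primeIdealOf ⟨_, hzU⟩)
    have h3 := (M1.isUnit_germ_iff hU hzU r).1 hr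
    rw [h2] at h3
    exact h3 h1

/-- The zero-sections finiteness. -/
theorem finite_sections (q : X ⟶ Spec (CommRingCat.of k)) [IsProper q] {N : X.Modules} (hN : Coh.IsCoh N) :
    letI : Module k Γ(N, ⊤) := Module.compHom _ (base q)
    Module.Finite k Γ(N, ⊤) := by
  letI : Module k Γ(N, ⊤) := Module.compHom _ (base q)
  letI := CohFound.hMod (base q) N 0 ⊤
  haveI : Module.Finite k (CohFound.Hc ((CohFound.abF X).obj N) 0 ⊤) := CohFound.hFin_proper q N hN 0
  let f : CohFound.Hc ((CohFound.abF X).obj N) 0 ⊤ →ₗ[k] Γ(N, ⊤) :=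
    { toFun := fun x => CohFound.hc0 _ ⊤ x
      map_add' := map_add (CohFound.hc0 ((CohFound.abF X).obj N) ⊤)
      map_smul' := fun c x => by
        refine (CohFound.hc0_mp (CohFound.gEnd N (base q c)) ⊤ x).trans ?_
        refine (CohFound.gEnd_app N (base q c) ⊤ _).trans ?_
        rw [M1.ores_id]
        rfl }
  exact Module.Finite.of_surjective f (CohFound.hc0 _ ⊤).surjective

/-- Some power of a section with affine non-vanishing locus kills everything coming from higher twists. -/
theorem exists_forall_eq_zero (q : X ⟶ Spec (CommRingCat.of k)) [IsProper q] {N : X.Modules}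
    (hN : Coh.IsCoh N) (hass : ∀ x : X, IsClosed ({x} : Set X) → ¬ Curv2.IsAssPoint N x)
    {M : X.Modules} (hM : PicF.IsInvertible M) (s : Coh.structureModule X ⟶ M)
    (hG : IsAffineOpen (CohB1.genLocus M s)) :
    ∃ j₀ : ℕ, ∀ j, j₀ ≤ j → ∀ (Q : X.Modules) (φ : CohB1.tensorMod Q (CohB1.tensorPow M j) ⟶ N) (w : Γ(Q, ⊤)),
      φ.app ⊤ (tsec Q (CohB1.tensorPow M j) w (Amp.pw (Amp.gval s) j)) = 0 := by
  haveI := CohFound.isNoetherian_of_isProper q
  letI : Module k Γ(N, ⊤) := Module.compHom _ (base q)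
  haveI : Module.Finite k Γ(N, ⊤) := finite_sections q hN
  haveI : IsArtinian k Γ(N, ⊤) := inferInstance
  let W : ℕ →o (Submodule k Γ(N, ⊤))ᵒᵈ :=
    { toFun := fun j =>
        { carrier := {v | ∀ x ∉ CohB1.genLocus M s, gm N x (U := ⊤) trivial v ∈
            (IsLocalRing.maximalIdeal (X.presheaf.stalk x) ^ j • ⊤ : Submodule (X.presheaf.stalk x) _)}
          add_mem' := fun {a b} ha hb x hx =>
            (congrArg (· ∈ _) (map_add (N.presheaf.germ ⊤ x trivial).hom a b)).mpr (add_mem (ha x hx) (hb x hx))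
          zero_mem' := fun x hx =>
            (congrArg (· ∈ _) (map_zero (N.presheaf.germ ⊤ x trivial).hom)).mpr (zero_mem _)
          smul_mem' := fun c v hv x hx => by
            show gm N x (U := ⊤) trivial (base q c • v) ∈ _
            rw [Amp.gm_smul]
            exact Submodule.smul_mem _ _ (hv x hx) }
      monotone' := fun a b hab v hv x hx =>
        Submodule.smul_mono_left (Ideal.pow_le_pow_right hab) (hv x hx) }
  obtain ⟨j₀, hj₀⟩ := IsArtinian.monotone_stabilizes W
  refine ⟨j₀, fun j hj Q φ w => ?_⟩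
  let v := φ.app ⊤ (tsec Q (CohB1.tensorPow M j) w (Amp.pw (Amp.gval s) j))
  refine eq_zero_of_forall_gm_eq_zero q hN.1 hass hG v fun x hx => ?_
  have hv : v ∈ OrderDual.ofDual (W j) := fun z hz => by
    obtain ⟨U, e, hzU, -, -, he⟩ := Amp.exists_isGenerator hM (x := z) (V := ⊤) trivial
    obtain ⟨a, ha⟩ := Amp.exists_coeff he (res M le_top (Amp.gval s))
    have haz : X.presheaf.germ U z hzU a ∈ IsLocalRing.maximalIdeal (X.presheaf.stalk z) := fun hu => by
      refine hz ((Amp.mem_genLocus_iff hM s).2 ?_)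
      rw [← Amp.gm_res (le_top : U ≤ ⊤) hzU, ← ha, Amp.gm_smul]
      exact ((Amp.gen_of_isGenerator he hzU).ne_zero_smul _).2 hu
    have h1 : res N (le_top : U ≤ ⊤) v =
        a ^ j • φ.app U (tsec Q (CohB1.tensorPow M j) (res Q le_top w) (Amp.pw e j)) := by
      refine (M1.app_mres φ le_top _).symm.trans ?_
      refine (congrArg (φ.app U) (M2.res_tsec le_top _ _)).trans ?_
      rw [Amp.res_pw, ← ha, Amp.pw_smul, M2.tsec_smul_right]
      exact Scheme.Modules.Hom.app_smul φ _ _
    have h2 := congrArg (gm N z hzU) h1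
    rw [Amp.gm_res, Amp.gm_smul, map_pow] at h2
    rw [h2]
    exact Submodule.smul_mem_smul (Ideal.pow_mem_pow haz j) Submodule.mem_top
  haveI : Module.Finite (X.presheaf.stalk x) (N.presheaf.stalk x) := M1.finite_stalk hN.1 hN.2 x
  have hall : ∀ i, gm N x (U := ⊤) trivial v ∈
      (IsLocalRing.maximalIdeal (X.presheaf.stalk x) ^ i • ⊤ : Submodule (X.presheaf.stalk x) _) := fun i => by
    by_cases hi : i ≤ j
    · exact Submodule.smul_mono_left (Ideal.pow_le_pow_right hi) (hv x hx)
    · have h3 : W i = W j := (hj₀ i (hj.trans (Nat.le_of_not_le hi))).symm.trans (hj₀ j hj)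
      have h4 : v ∈ OrderDual.ofDual (W i) := by rw [h3]; exact hv
      exact h4 x hx
  have hinf := Ideal.iInf_pow_smul_eq_bot_of_isLocalRing (IsLocalRing.maximalIdeal (X.presheaf.stalk x))
    (M := N.presheaf.stalk x) (IsLocalRing.maximalIdeal.isMaximal _).ne_top
  exact (Submodule.mem_bot (X.presheaf.stalk x)).1 (hinf ▸ (Submodule.mem_iInf _).2 hall)

section Tensor

theorem tmul_eq_zero_of_bijective {R A B : Type u} [CommRing R] [AddCommGroup A] [Module R A] [AddCommGroup B]
    [Module R B] (g : B) (hg : Function.Bijective fun r : R => r • g) (a : A) (h : a ⊗ₜ[R] g = 0) : a = 0 := by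
  let eB : R ≃ₗ[R] B := LinearEquiv.ofBijective (LinearMap.toSpanSingleton R B g) hg
  have h2 := congrArg ((TensorProduct.congr (LinearEquiv.refl R A) eB.symm).trans (TensorProduct.rid R A)) h
  have h3 : eB.symm g = 1 := by
    rw [LinearEquiv.symm_apply_eq]
    exact (one_smul R g).symm
  simpa [h3] using h2

variable {F Q : X.Modules}

/-- Tensoring with a generator does not change associated points. -/
theorem isAssPoint_of_tensor (hQ : PicF.IsInvertible Q) {x : X}
    (h : Curv2.IsAssPoint (CohB1.tensorMod F Q) x) : Curv2.IsAssPoint F x := by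
  obtain ⟨U, e, hxU, -, -, he⟩ := Amp.exists_isGenerator hQ (x := x) (V := ⊤) trivial
  have hg := Amp.gen_of_isGenerator he hxU
  let eQ : X.presheaf.stalk x ≃ₗ[X.presheaf.stalk x] (Q.presheaf.stalk x : Type u) :=
    LinearEquiv.ofBijective (LinearMap.toSpanSingleton (X.presheaf.stalk x) _ (gm Q x hxU e)) hg
  let eF := ((stalkEquiv F Q x).trans (TensorProduct.congr (LinearEquiv.refl _ _) eQ.symm)).trans
    (TensorProduct.rid (X.presheaf.stalk x) (F.presheaf.stalk x : Type u))
  exact IsAssociatedPrime.map_of_injective (f := eF.toLinearMap) h eF.injective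

/-- A tensor with a generator is zero only when the other factor is. -/
theorem gm_eq_zero_of_tsec (hQ : PicF.IsInvertible Q) {U : X.Opens} {y : X} (hy : y ∈ U) (w : Γ(F, U))
    (t : Γ(Q, U)) (ht : Gen (gm Q y hy t)) (h : tsec F Q w t = 0) : gm F y hy w = 0 := by
  have h1 := M2.stalkEquiv_tsec F Q y hy w t
  rw [h, map_zero, map_zero] at h1
  exact tmul_eq_zero_of_bijective _ ht _ h1.symm

end Tensor

theorem exists_subsingleton_sections (q : X ⟶ Spec (CommRingCat.of k)) [IsProper q] {L M F : X.Modules}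
    (hL : CohB1.IsAmple L) (hM : ClSub.IsInverseOf L M) (hF : Coh.IsCoh F)
    (hass : ∀ x : X, IsClosed ({x} : Set X) → ¬ Curv2.IsAssPoint F x) :
    ∃ n₀ : ℕ, ∀ n, n₀ ≤ n → Subsingleton Γ(CohB1.tensorMod F (CohB1.tensorPow M n), ⊤) := by
  classical
  obtain ⟨e⟩ := hM
  obtain ⟨hLi, hX, hc⟩ := Amp.isAmple_iff.1 hL
  haveI := hX
  haveI := CohFound.isNoetherian_of_isProper q
  have hMi : PicF.IsInvertible M :=
    M2.isInvertible_of_tensor_iso_unit M L (M2.tensorComm M L ≪≫ e)
  choose m G hG hxG hA using hc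
  obtain ⟨T, hT⟩ := isCompact_univ.elim_finite_subcover (fun x => (G x : Set X)) (fun x => (G x).isOpen)
    fun x _ => Set.mem_iUnion.2 ⟨x, hxG x⟩
  let N := ∏ x ∈ T, (m x + 1)
  have hN : 0 < N := Finset.prod_pos fun y _ => Nat.succ_pos _
  have hG' : ∀ x : T, Amp.HasSec L N (G x) := fun x => by
    obtain ⟨c, hc⟩ := Finset.dvd_prod_of_mem (fun y => m y + 1) x.2
    have hN' := hN
    rw [show N = (m x + 1) * c from hc] at hN' ⊢
    obtain ⟨c', rfl⟩ := Nat.exists_eq_succ_of_ne_zero (n := c) (fun h0 => by simp [h0] at hN')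
    exact (hG x).powPow hLi c'
  choose s hs using hG'
  let LN := CohB1.tensorPow L N
  have hLN : PicF.IsInvertible LN := Amp.isInvertible_tensorPow hLi N
  let Fr : ℕ → X.Modules := fun r => CohB1.tensorMod F (CohB1.tensorPow M r)
  have hMr : ∀ r, PicF.IsInvertible (CohB1.tensorPow M r) := fun r => Amp.isInvertible_tensorPow hMi r
  have hFr : ∀ r, Coh.IsCoh (Fr r) := fun r => CohFound.isCoh_tensor hF (CohFound.isCoh_of_isFinLocFree (M2.isFinLocFree_of_isInvertible (hMr r)))
  choose j₀ hj₀ using fun p : Fin N × T => exists_forall_eq_zero q (hFr p.1)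
    (fun x hx h => hass x hx (isAssPoint_of_tensor (hMr _) h)) hLN (s p.2)
    (by rw [show CohB1.genLocus LN (s p.2) = G p.2 from hs p.2]; exact hA _)
  refine ⟨N * (Finset.univ.sup j₀ + 1), fun n hn => ⟨fun a b => ?_⟩⟩
  suffices H : ∀ w : Γ(CohB1.tensorMod F (CohB1.tensorPow M n), ⊤), w = 0 by rw [H a, H b]
  intro w
  let r : Fin N := ⟨n % N, Nat.mod_lt _ hN⟩
  let j := n / N
  have hj : Finset.univ.sup j₀ + 1 ≤ j := (Nat.le_div_iff_mul_le hN).2 (by rwa [mul_comm])
  have hnj : n = r + N * j := (Nat.mod_add_div n N).symm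
  have hone : ∀ i : ℕ, Nonempty (CohB1.tensorPow (Coh.structureModule X) i ≅ Coh.structureModule X) := fun i => by
    induction i with
    | zero => exact ⟨Iso.refl _⟩
    | succ i ih =>
      obtain ⟨e⟩ := ih
      exact ⟨M2.tensorRUnit _ ≪≫ e⟩
  obtain ⟨e₁⟩ := hone (N * j)
  let φ : CohB1.tensorMod (CohB1.tensorMod F (CohB1.tensorPow M n)) (CohB1.tensorPow LN j) ≅ Fr r :=
    M2.tensorAssoc F (CohB1.tensorPow M n) (CohB1.tensorPow LN j) ≪≫
      M2.tensorIso (Iso.refl F) (M2.tensorIso (eqToIso (congrArg (CohB1.tensorPow M) hnj) ≪≫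
          M2.tensorPowAdd M r (N * j)) (M2.tensorPowPow L N j) ≪≫ M2.tensorAssoc _ _ _ ≪≫
        M2.tensorIso (Iso.refl _) ((M2.tensorPowMul M L (N * j)).symm ≪≫
          M2.tensorPowIso (M2.tensorComm M L ≪≫ e) (N * j) ≪≫ e₁) ≪≫ M2.tensorRUnit _)
  refine Amp.eq_of_gm fun y hy => ?_
  rw [show gm (CohB1.tensorMod F (CohB1.tensorPow M n)) y hy 0 = 0 from map_zero _]
  obtain ⟨x, hx, hyx⟩ := Set.mem_iUnion₂.1 (hT (Set.mem_univ y))
  have h0 := hj₀ (r, ⟨x, hx⟩) j ((Finset.le_sup (Finset.mem_univ _)).trans (Nat.le_of_succ_le hj)) _ φ.hom w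
  have h1 : tsec (CohB1.tensorMod F (CohB1.tensorPow M n)) (CohB1.tensorPow LN j) w
      (Amp.pw (Amp.gval (s ⟨x, hx⟩)) j) = 0 :=
    (ConcreteCategory.bijective_of_isIso (φ.hom.app ⊤)).1 (h0.trans (map_zero _).symm)
  exact gm_eq_zero_of_tsec (Amp.isInvertible_tensorPow hLN j) hy w _
    (Amp.gen_pw hLN hy _ _ ((Amp.mem_genLocus_iff hLN _).1 (by rw [hs]; exact hyx))) h1

end Groth.Agent.NegTwist18
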